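import Groth.Agent.FunFld1.Rational
import Groth.Agent.FunFld1.Extension
import Mathlib.FieldTheory.RatFunc.IntermediateField
import Mathlib.FieldTheory.RatFunc.AsPolynomial

/-! Places of the rational function field. -/

open FunFld Groth.FunFld1
open scoped WithZero Polynomial

namespace Groth.Funfld2.Rat

variable {k : Type*} [Field k]

/-- Polynomials as rational functions. -/
local notation "ι" => algebraMap k[X] (RatFunc k)

theorem ι_X : ι Polynomial.X = RatFunc.X := RatFunc.algebraMap_X

theorem ι_C (c : k) : ι (Polynomial.C c) = algebraMap k (RatFunc k) c := by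
  rw [← Polynomial.algebraMap_eq, ← IsScalarTower.algebraMap_apply]

theorem transcendental_X : Transcendental k (RatFunc.X : RatFunc k) := by
  refine RatFunc.transcendental_of_ne_C _ fun ⟨c, hc⟩ => ?_
  rw [← ι_X, ← RatFunc.algebraMap_C] at hc
  exact Polynomial.X_ne_C c (RatFunc.algebraMap_injective k hc)

theorem isFunctionField : IsFunctionField k (RatFunc k) := by
  refine ⟨⟨RatFunc.X, transcendental_X, ?_⟩, fun y hy => ?_⟩
  · rw [RatFunc.adjoin_X]
    exact Module.Finite.of_surjective
      (Algebra.linearMap (⊤ : IntermediateField k (RatFunc k)) (RatFunc k))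
      fun z => ⟨⟨z, IntermediateField.mem_top⟩, rfl⟩
  · by_contra h
    refine RatFunc.transcendental_of_ne_C y (fun ⟨c, hc⟩ => h ⟨c, ?_⟩) hy
    rw [hc, RatFunc.algebraMap_eq_C]

theorem isFF : IsFF k (RatFunc k) := IsFF.of_isFunctionField isFunctionField

theorem genus_eq_zero : genus k (RatFunc k) = 0 :=
  genus_eq_zero_of_rational isFunctionField RatFunc.adjoin_X

variable {P : Place k (RatFunc k)}

theorem val_poly_le_one (h : 0 ≤ P.ord (RatFunc.X : RatFunc k)) (p : k[X]) : P.1 (ι p) ≤ 1 := by
  induction p using Polynomial.induction_on' with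
  | add p q hp hq => rw [map_add]; exact Valuation.map_add_le _ hp hq
  | monomial n a =>
    rw [← Polynomial.C_mul_X_pow_eq_monomial, map_mul, map_pow, map_mul, map_pow, ι_C, ι_X]
    exact mul_le_one' (P.2.1 a) (pow_le_one₀ zero_le ((val_le_one_iff P _).2 h))

/-- At a finite place a squarefree polynomial has order at most one. -/
theorem ord_squarefree_le_one (h : 0 ≤ P.ord (RatFunc.X : RatFunc k)) {f : k[X]}
    (hf : Squarefree f) : P.ord (ι f) ≤ 1 := by
  classical
  have hle := val_poly_le_one h
  -- the prime of `k[X]` below `P`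
  let I : Ideal k[X] :=
    { carrier := {p | P.1 (ι p) < 1}
      add_mem' := fun {a b} ha hb => by
        simp only [Set.mem_ofPred_eq] at ha hb ⊢
        rw [map_add]; exact Valuation.map_add_lt _ ha hb
      zero_mem' := by simp
      smul_mem' := fun c p hp => by
        simp only [Set.mem_ofPred_eq, smul_eq_mul] at hp ⊢
        rw [map_mul, map_mul]
        exact (mul_le_of_le_one_left' (hle c)).trans_lt hp }
  set π := Submodule.IsPrincipal.generator I with hπ
  have hmem : ∀ p, P.1 (ι p) < 1 ↔ π ∣ p := fun p => by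
    change p ∈ I ↔ _
    rw [hπ, ← Submodule.IsPrincipal.mem_iff_generator_dvd]
  obtain ⟨t, -, ht⟩ := exists_uniformizer P
  have ht1 : P.1 t < 1 := by rw [ht, ← WithZero.exp_zero, WithZero.exp_lt_exp]; omega
  have hπ0 : ι π ≠ 0 := by
    intro h0
    have hz : π = 0 := by
      rw [← map_zero ι] at h0
      exact RatFunc.algebraMap_injective k h0
    have hnum : t.num = 0 := by
      have : P.1 (ι t.num) < 1 := by
        rw [← RatFunc.num_div_denom t, map_div₀, div_lt_one₀ (zero_lt_iff.2 (by simp [t.denom_ne_zero]))] at ht1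
        exact ht1.trans_le (hle _)
      rwa [hmem, hz, zero_dvd_iff] at this
    rw [RatFunc.num_eq_zero_iff] at hnum
    rw [hnum, map_zero] at ht
    exact WithZero.exp_ne_zero ht.symm
  have hπpos : 0 < P.ord (ι π) := (val_lt_one_iff P hπ0).1 ((hmem π).2 dvd_rfl)
  have hdvd : ∀ p : k[X], p ≠ 0 → (P.ord (ι π) ∣ P.ord (ι p)) := by
    intro p hp
    induction hn : p.natDegree using Nat.strong_induction_on generalizing p with
    | _ n ih =>
      subst hn
      by_cases hdiv : π ∣ p
      · obtain ⟨q, rfl⟩ := hdiv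
        obtain ⟨hπne, hq⟩ := mul_ne_zero_iff.1 hp
        rw [map_mul, ord_mul P hπ0 (RatFunc.algebraMap_ne_zero hq)]
        refine dvd_add dvd_rfl (ih _ ?_ q hq rfl)
        rw [Polynomial.natDegree_mul hπne hq]
        have : 0 < π.natDegree := by
          rw [Polynomial.natDegree_pos_iff_degree_pos]
          by_contra hd
          rw [Polynomial.eq_C_of_degree_le_zero (not_lt.1 hd)] at hπpos
          rw [ι_C, ord_algebraMap] at hπpos
          exact lt_irrefl _ hπpos
        omega
      · have : P.1 (ι p) = 1 := le_antisymm (hle p) (not_lt.1 fun h => hdiv ((hmem p).1 h))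
        rw [(val_eq_one_iff P (RatFunc.algebraMap_ne_zero hp)).1 this]
        exact dvd_zero _
  have hπ1 : P.ord (ι π) = 1 := by
    have h1 : P.ord t = 1 := by rw [ord_eq_of_val_eq P ht, neg_neg]
    have hne : t.num ≠ 0 := fun e => by
      rw [RatFunc.num_eq_zero_iff] at e
      rw [e, ord_zero] at h1
      omega
    rw [← RatFunc.num_div_denom t, div_eq_mul_inv, ord_mul P (RatFunc.algebraMap_ne_zero hne)
      (inv_ne_zero (RatFunc.algebraMap_ne_zero t.denom_ne_zero)), ord_inv] at h1
    obtain ⟨u, hu⟩ := hdvd _ hne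
    obtain ⟨w, hw⟩ := hdvd _ t.denom_ne_zero
    have h2 : P.ord (ι π) * (u - w) = 1 := by rw [mul_sub, ← hu, ← hw]; linarith
    rcases Int.eq_one_or_neg_one_of_mul_eq_one h2 with e | e <;> omega
  by_cases hfd : π ∣ f
  · obtain ⟨g, rfl⟩ := hfd
    have hg : ¬ π ∣ g := fun hg => by
      obtain ⟨r, rfl⟩ := hg
      have hu : IsUnit π := hf π ⟨r, by ring⟩
      obtain ⟨c, -, hc⟩ := Polynomial.isUnit_iff.1 hu
      rw [← hc, ι_C, ord_algebraMap] at hπpos
      exact lt_irrefl _ hπpos
    have hg0 : g ≠ 0 := fun e => hg (e ▸ dvd_zero π)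
    have : P.1 (ι g) = 1 := le_antisymm (hle g) (not_lt.1 fun h => hg ((hmem g).1 h))
    rw [map_mul, ord_mul P hπ0 (RatFunc.algebraMap_ne_zero hg0), hπ1,
      (val_eq_one_iff P (RatFunc.algebraMap_ne_zero hg0)).1 this]
    omega
  · have : P.1 (ι f) = 1 := le_antisymm (hle f) (not_lt.1 fun h => hfd ((hmem f).1 h))
    rw [(val_eq_one_iff P (RatFunc.algebraMap_ne_zero hf.ne_zero)).1 this]
    omega

/-- At infinity the order of a polynomial is minus its degree. -/
theorem ord_poly_inf (h : P.ord (RatFunc.X : RatFunc k) < 0) :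
    P.ord (RatFunc.X : RatFunc k) = -1 ∧
      ∀ p : k[X], p ≠ 0 → P.ord (ι p) = -(p.natDegree : ℤ) := by
  classical
  have hX : 1 < P.1 (RatFunc.X : RatFunc k) := (one_lt_val_iff P _).2 h
  have hX0 : (RatFunc.X : RatFunc k) ≠ 0 := RatFunc.X_ne_zero
  have key : ∀ p : k[X], p ≠ 0 → P.1 (ι p) = P.1 (RatFunc.X : RatFunc k) ^ p.natDegree := by
    intro p hp
    have hsum : ι p = ∑ i ∈ Finset.range (p.natDegree + 1),
        algebraMap k (RatFunc k) (p.coeff i) * RatFunc.X ^ i := by
      conv_lhs => rw [p.as_sum_range_C_mul_X_pow]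
      simp only [map_sum, map_mul, map_pow, ι_C, ι_X]
    rw [hsum, Valuation.map_sum_eq_of_lt (v := P.1) (Finset.self_mem_range_succ _) fun i hi => ?_]
    · rw [map_mul, map_pow, val_algebraMap P (by
        rw [Polynomial.coeff_natDegree]; exact Polynomial.leadingCoeff_ne_zero.2 hp), one_mul]
    · simp only [Finset.mem_sdiff, Finset.mem_range, Finset.mem_singleton] at hi
      rw [map_mul, map_mul, map_pow, map_pow, val_algebraMap P (c := p.coeff p.natDegree) (by
        rw [Polynomial.coeff_natDegree]; exact Polynomial.leadingCoeff_ne_zero.2 hp), one_mul]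
      exact (mul_le_of_le_one_left' (P.2.1 _)).trans_lt (pow_lt_pow_right₀ hX (by omega))
  have hord : ∀ p : k[X], p ≠ 0 → P.ord (ι p) = p.natDegree * P.ord (RatFunc.X : RatFunc k) := by
    intro p hp
    rw [ord_eq_of_val_eq P (n := p.natDegree • -P.ord (RatFunc.X : RatFunc k)) (by
      rw [key p hp, val_eq_exp_neg_ord P hX0, ← WithZero.exp_nsmul]), nsmul_eq_mul]
    ring
  have hX1 : P.ord (RatFunc.X : RatFunc k) = -1 := by
    obtain ⟨t, -, ht⟩ := exists_uniformizer P
    have h1 : P.ord t = 1 := by rw [ord_eq_of_val_eq P ht, neg_neg]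
    have hne : t.num ≠ 0 := fun e => by
      rw [RatFunc.num_eq_zero_iff] at e
      rw [e, ord_zero] at h1
      omega
    rw [← RatFunc.num_div_denom t, div_eq_mul_inv, ord_mul P (RatFunc.algebraMap_ne_zero hne)
      (inv_ne_zero (RatFunc.algebraMap_ne_zero t.denom_ne_zero)), ord_inv, hord _ hne,
      hord _ t.denom_ne_zero] at h1
    have h2 : P.ord (RatFunc.X : RatFunc k) * ((t.num.natDegree : ℤ) - t.denom.natDegree) = 1 := by
      linarith
    rcases Int.eq_one_or_neg_one_of_mul_eq_one h2 with e | e <;> omega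
  exact ⟨hX1, fun p hp => by rw [hord p hp, hX1]; ring⟩

/-- The place at infinity has degree one. -/
theorem deg_inf (h : P.ord (RatFunc.X : RatFunc k) < 0) : P.deg = 1 := by
  have hd := (isFF (k := k)).deg_poleDiv_eq (x := (RatFunc.X : RatFunc k)) transcendental_X
  have h1 : Module.finrank (IntermediateField.adjoin k ({(RatFunc.X : RatFunc k)} : Set (RatFunc k)))
      (RatFunc k) = 1 := by
    rw [RatFunc.adjoin_X]; exact IntermediateField.finrank_top
  rw [h1] at hd
  have hle : Finsupp.single P (1 : ℤ) ≤ zeroDiv k (RatFunc.X : RatFunc k)⁻¹ := fun Q => by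
    classical
    rw [Finsupp.single_apply, (isFF (k := k)).zeroDiv_apply, ord_inv]
    split_ifs with e
    · subst e; rw [(ord_poly_inf h).1]; norm_num
    · exact le_max_right _ _
  have h2 := Groth.FunFld1.deg_mono hle
  rw [hd, Groth.FunFld1.deg_single] at h2
  have := (isFF (k := k)).deg_pos P
  omega

end Groth.Funfld2.Rat
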